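/-
helper61 (project REEW): centralisers of the non-trivial elements of odd order of the split torus `H¹` of `²G₂(q)`.
-/
import Cfsg.Agent.Lib.Helper61.Ree.SylCyc
import Cfsg.Agent.Lib.Helper36.ReeWNorm
import Cfsg.Agent.Lib.Helper90.ReeWSylConj

set_option autoImplicit false
set_option linter.unusedSectionVars false

namespace Cfsg.Agent.Lib.Helper61.ReeW

open Cfsg.Lie Cfsg.Agent.Lib.Helper19.ReeAbs Cfsg.Agent.Lib.Helper61.ReeInv
open Cfsg.Agent.Lib.Helper36.ReeW Cfsg.Agent.Lib.Helper90.ReeW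

universe u

variable {K : Type u} [Field K] [Fintype K] [CharP K 3] {m : ℕ}

/-- `SANDWICH`: if `x ∈ A ≤ H`, `H` commutative and `C(x)` commutative, then `C(A) = C(x) = C(H)`. -/
theorem centralizer_eq_of_comm {G : Type*} [Group G] (H A : Subgroup G) (hAH : A ≤ H)
    (hH : ∀ a ∈ H, ∀ b ∈ H, a * b = b * a) (x : G) (hx : x ∈ A)
    (hC : ∀ y z : G, y * x = x * y → z * x = x * z → y * z = z * y) :
    Subgroup.centralizer (A : Set G) = Subgroup.centralizer {x} ∧
      Subgroup.centralizer (H : Set G) = Subgroup.centralizer {x} := by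
  have h1 : Subgroup.centralizer (H : Set G) ≤ Subgroup.centralizer (A : Set G) :=
    Subgroup.centralizer_le (by exact_mod_cast hAH)
  have h2 : Subgroup.centralizer (A : Set G) ≤ Subgroup.centralizer {x} :=
    Subgroup.centralizer_le (by simpa using hx)
  have h3 : Subgroup.centralizer {x} ≤ Subgroup.centralizer (H : Set G) := by
    intro w hw
    rw [Subgroup.mem_centralizer_singleton_iff] at hw
    rw [Subgroup.mem_centralizer_iff]
    intro h hh
    exact hC h w (hH h hh x (hAH hx)) hw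
  exact ⟨le_antisymm h2 (h3.trans h1), le_antisymm (h1.trans h2) h3⟩

/-- An element of `²G₂(q)` commuting with a non-trivial element of odd order of `H¹` lies in `H`. -/
theorem cent_torus (hK : Fintype.card K = 3 ^ (2 * m + 1)) (x : GL chevG2.Idx K)
    (hx : x ∈ chevG2.diagonalSubgroup K ⊓ twistedG2 K (3 ^ m)) (hx1 : x ≠ 1) (hodd : Odd (orderOf x))
    (g : GL chevG2.Idx K) (hg : g ∈ twistedG2 K (3 ^ m)) (hc : g * x = x * g) :
    g ∈ chevG2.diagonalSubgroup K := by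
  have hq := hq_of_card' hK
  have hfpf : ∀ u ∈ (reeTw K m hq).U, u ∈ (reeTw K m hq).G1 → x * u = u * x → u = 1 := by
    intro u hu hu1 hux
    have hbot := odd_fpf hK x hx hx1 hodd
    have hmem : u ∈ (chevG2.posUnipotent K ⊓ twistedG2 K (3 ^ m)) ⊓ Subgroup.centralizer {x} := by
      refine Subgroup.mem_inf.mpr ⟨Subgroup.mem_inf.mpr ⟨hu, hu1⟩, ?_⟩
      rw [Subgroup.mem_centralizer_singleton_iff]
      exact hux.symm
    rw [hbot, Subgroup.mem_bot] at hmem
    exact hmem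
  have hx2 : x * x ≠ 1 := by
    intro h
    have hd : orderOf x ∣ 2 := orderOf_dvd_of_pow_eq_one (by rw [pow_two]; exact h)
    have h1 : orderOf x = 1 := by
      rcases (Nat.dvd_prime Nat.prime_two).mp hd with h | h
      · exact h
      · rw [h] at hodd; exact absurd hodd (by decide)
    exact hx1 (orderOf_eq_one_iff.mp h1)
  exact mem_H_of_commute (reeTw K m hq) x hx.1 hx.2 hfpf hx2 g hg hc

/-- The split torus as a subgroup of `²G₂(q)`. -/
noncomputable def Hs (K : Type u) [Field K] [Fintype K] (m : ℕ) : Subgroup ↥(twistedG2 K (3 ^ m)) :=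
  (chevG2.diagonalSubgroup K ⊓ twistedG2 K (3 ^ m)).subgroupOf (twistedG2 K (3 ^ m))

theorem mem_Hs (w : ↥(twistedG2 K (3 ^ m))) :
    w ∈ Hs K m ↔ (w : GL chevG2.Idx K) ∈ chevG2.diagonalSubgroup K := by
  unfold Hs
  rw [Subgroup.mem_subgroupOf, Subgroup.mem_inf]
  exact ⟨fun h => h.1, fun h => ⟨h, w.2⟩⟩

theorem isCyclic_Hs (hK : Fintype.card K = 3 ^ (2 * m + 1)) : IsCyclic ↥(Hs K m) := by
  have e := Subgroup.subgroupOfEquivOfLe
    (inf_le_right : chevG2.diagonalSubgroup K ⊓ twistedG2 K (3 ^ m) ≤ twistedG2 K (3 ^ m))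
  haveI := isCyclic_H1 hK
  exact isCyclic_of_surjective e.symm e.symm.surjective

theorem card_Hs (hK : Fintype.card K = 3 ^ (2 * m + 1)) : Nat.card ↥(Hs K m) = 3 ^ (2 * m + 1) - 1 := by
  have e := Subgroup.subgroupOfEquivOfLe
    (inf_le_right : chevG2.diagonalSubgroup K ⊓ twistedG2 K (3 ^ m) ≤ twistedG2 K (3 ^ m))
  unfold Hs
  rw [Nat.card_congr e.toEquiv, card_H1 hK]

theorem Hs_comm (hK : Fintype.card K = 3 ^ (2 * m + 1)) (a b : ↥(twistedG2 K (3 ^ m))) (ha : a ∈ Hs K m)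
    (hb : b ∈ Hs K m) : a * b = b * a := by
  have hq := hq_of_card' hK
  apply Subtype.ext
  exact (reeTw K m hq).H_comm _ ((mem_Hs a).mp ha) _ ((mem_Hs b).mp hb)

/-- `C(x) = g⁻¹ H¹ g` if `g x g⁻¹ ∈ H¹` has odd order and is not `1`. -/
theorem centralizer_eq_conj_Hs (hK : Fintype.card K = 3 ^ (2 * m + 1)) (x g : ↥(twistedG2 K (3 ^ m)))
    (hx1 : x ≠ 1) (hodd : Odd (orderOf x)) (hg : g * x * g⁻¹ ∈ Hs K m) :
    Subgroup.centralizer {x} = (Hs K m).map (MulAut.conj g⁻¹).toMonoidHom := by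
  set x' : ↥(twistedG2 K (3 ^ m)) := g * x * g⁻¹ with hx'
  have hx'1 : (x' : GL chevG2.Idx K) ≠ 1 := by
    intro h
    apply hx1
    have h1 : x' = 1 := Subtype.ext h
    have : x = g⁻¹ * x' * g := by rw [hx']; group
    rw [this, h1]; group
  have hord : orderOf (x' : GL chevG2.Idx K) = orderOf x := by
    rw [Subgroup.orderOf_coe, hx']
    exact orderOf_injective (MulAut.conj g).toMonoidHom (MulAut.conj g).injective x
  have hx'H : (x' : GL chevG2.Idx K) ∈ chevG2.diagonalSubgroup K ⊓ twistedG2 K (3 ^ m) :=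
    ⟨(mem_Hs x').mp hg, x'.2⟩
  ext w
  rw [Subgroup.mem_centralizer_singleton_iff, Subgroup.mem_map]
  constructor
  · intro hw
    refine ⟨g * w * g⁻¹, ?_, ?_⟩
    · rw [mem_Hs]
      apply cent_torus hK (x' : GL chevG2.Idx K) hx'H hx'1 (by rw [hord]; exact hodd) _ (g * w * g⁻¹).2
      have : (g * w * g⁻¹) * x' = x' * (g * w * g⁻¹) := by
        rw [hx']
        calc g * w * g⁻¹ * (g * x * g⁻¹) = g * (w * x) * g⁻¹ := by group
          _ = g * (x * w) * g⁻¹ := by rw [hw]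
          _ = g * x * g⁻¹ * (g * w * g⁻¹) := by group
      exact congrArg Subtype.val this
    · show g⁻¹ * (g * w * g⁻¹) * g⁻¹⁻¹ = w
      group
  · rintro ⟨h, hh, rfl⟩
    show g⁻¹ * h * g⁻¹⁻¹ * x = x * (g⁻¹ * h * g⁻¹⁻¹)
    have hc := Hs_comm hK h x' hh hg
    rw [hx'] at hc
    calc g⁻¹ * h * g⁻¹⁻¹ * x = g⁻¹ * (h * (g * x * g⁻¹)) * g := by group
      _ = g⁻¹ * ((g * x * g⁻¹) * h) * g := by rw [hc]
      _ = x * (g⁻¹ * h * g⁻¹⁻¹) := by group

/-- The `s`-part of `|²G₂(q)|` for an odd prime `s ∣ q - 1`. -/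
theorem factorization_sub_one (q s : ℕ) (hq : 0 < q) (hs : s.Prime) (hs2 : s ≠ 2) (hsq : s ∣ q - 1) :
    (q ^ 3 * (q - 1) * (q ^ 3 + 1)).factorization s = (q - 1).factorization s := by
  have h2 : ¬ s ∣ 2 := fun h => hs2 ((Nat.prime_dvd_prime_iff_eq hs Nat.prime_two).mp h)
  by_cases hq1 : q - 1 = 0
  · rw [hq1, mul_zero, zero_mul]
  have hq3 : ¬ s ∣ q ^ 3 := by
    intro h
    have h' : s ∣ q := hs.dvd_of_dvd_pow h
    have h1 : s ∣ q - (q - 1) := Nat.dvd_sub h' hsq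
    have e : q - (q - 1) = 1 := by omega
    rw [e] at h1
    exact hs.one_lt.ne' (Nat.dvd_one.mp h1)
  have h3 : ¬ s ∣ q ^ 3 + 1 := by
    intro h
    have h' : q - 1 ∣ q ^ 3 - 1 ^ 3 := Nat.sub_dvd_pow_sub_pow q 1 3
    rw [one_pow] at h'
    have h1 : s ∣ (q ^ 3 + 1) - (q ^ 3 - 1) := Nat.dvd_sub h (hsq.trans h')
    have hpos : 0 < q ^ 3 := by positivity
    have e : (q ^ 3 + 1) - (q ^ 3 - 1) = 2 := by omega
    rw [e] at h1
    exact h2 h1
  have hq30 : q ^ 3 ≠ 0 := pow_ne_zero _ hq.ne'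
  have h30 : q ^ 3 + 1 ≠ 0 := by omega
  rw [Nat.factorization_mul (Nat.mul_ne_zero hq30 hq1) h30, Nat.factorization_mul hq30 hq1, Finsupp.add_apply,
    Finsupp.add_apply, Nat.factorization_eq_zero_of_not_dvd hq3, Nat.factorization_eq_zero_of_not_dvd h3,
    zero_add, add_zero]

/-- An element of odd prime order `s ∣ q - 1` of `²G₂(q)` is conjugate into `H¹`. -/
theorem exists_conj_mem_Hs (hK : Fintype.card K = 3 ^ (2 * m + 1)) (x : ↥(twistedG2 K (3 ^ m))) (s : ℕ)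
    (hs : s.Prime) (hs2 : s ≠ 2) (hsq : s ∣ 3 ^ (2 * m + 1) - 1) (hx : orderOf x = s) :
    ∃ g : ↥(twistedG2 K (3 ^ m)), g * x * g⁻¹ ∈ Hs K m := by
  haveI : Fact s.Prime := ⟨hs⟩
  have hfac : (Nat.card ↥(twistedG2 K (3 ^ m))).factorization s = (Nat.card ↥(Hs K m)).factorization s := by
    rw [ree_card hK, card_Hs hK]
    exact factorization_sub_one _ s (by positivity) hs hs2 hsq
  have hp : IsPGroup s ↥(Subgroup.zpowers x) := by
    apply IsPGroup.of_card (n := 1)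
    rw [Nat.card_zpowers, hx, pow_one]
  obtain ⟨g, hg⟩ := exists_conj_mem_of_factorization (Hs K m) hfac (Subgroup.zpowers x) hp
  exact ⟨g, hg x (Subgroup.mem_zpowers x)⟩

/-- **Lemma T**: the centraliser of an element of odd prime order `s ∣ q - 1` is a conjugate of `H¹`: cyclic of order
`q - 1`. -/
theorem centralizer_sub_one (hK : Fintype.card K = 3 ^ (2 * m + 1)) (x : ↥(twistedG2 K (3 ^ m))) (s : ℕ)
    (hs : s.Prime) (hs2 : s ≠ 2) (hsq : s ∣ 3 ^ (2 * m + 1) - 1) (hx : orderOf x = s) :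
    IsCyclic ↥(Subgroup.centralizer {x}) ∧ Nat.card ↥(Subgroup.centralizer {x}) = 3 ^ (2 * m + 1) - 1 ∧
      ∀ y z : ↥(twistedG2 K (3 ^ m)), y * x = x * y → z * x = x * z → y * z = z * y := by
  obtain ⟨g, hg⟩ := exists_conj_mem_Hs hK x s hs hs2 hsq hx
  have hx1 : x ≠ 1 := by
    intro h
    rw [h, orderOf_one] at hx
    exact hs.one_lt.ne hx
  have hodd : Odd (orderOf x) := by
    rw [hx]
    exact hs.odd_of_ne_two hs2
  have hC := centralizer_eq_conj_Hs hK x g hx1 hodd hg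
  have e := (Hs K m).equivMapOfInjective (MulAut.conj g⁻¹).toMonoidHom (MulAut.conj g⁻¹).injective
  refine ⟨?_, ?_, ?_⟩
  · rw [hC]
    haveI := isCyclic_Hs hK
    exact isCyclic_of_surjective e e.surjective
  · rw [hC, ← Nat.card_congr e.toEquiv, card_Hs hK]
  · intro y z hy hz
    have hy' : y ∈ Subgroup.centralizer {x} := Subgroup.mem_centralizer_singleton_iff.mpr hy
    have hz' : z ∈ Subgroup.centralizer {x} := Subgroup.mem_centralizer_singleton_iff.mpr hz
    rw [hC, Subgroup.mem_map] at hy' hz'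
    obtain ⟨a, ha, rfl⟩ := hy'
    obtain ⟨b, hb, rfl⟩ := hz'
    rw [← map_mul, ← map_mul, Hs_comm hK a b ha hb]

end Cfsg.Agent.Lib.Helper61.ReeW
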