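/-
helper61 (project REEW): the involutions of `²G₂(q)` are conjugate, their centralisers are `Z₂ × PSL₂(q)`, and every
element of odd prime order `s ∣ q + 1` commutes with an involution.
-/
import Cfsg.Agent.Lib.Helper61.ReeW.Torus
import Cfsg.Agent.Lib.Helper61.Ree.InvIso
import Cfsg.Agent.S1152
import Cfsg.Agent.S1157
import Cfsg.Agent.Lib.Helper86.ReeWInvConj

set_option autoImplicit false
set_option linter.unusedSectionVars false

namespace Cfsg.Agent.Lib.Helper61.ReeW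

open Cfsg.Lie Cfsg.Agent.Lib.Helper18 Cfsg.Agent.Lib.Helper19.ReeAbs Cfsg.Agent.Lib.Helper61.ReeInv
open Cfsg.Agent.Lib.Helper61.Ree Cfsg.Agent.Lib.Helper61.ChevJ.G2ReeH
open Cfsg.Agent.Lib.Helper86.ReeW Cfsg.Agent.Lib.Helper90.ReeW
open scoped MatrixGroups

universe u

variable {K : Type u} [Field K] [Fintype K] [CharP K 3] {m : ℕ}

/-- The involution `h₀` as an element of `²G₂(q)`. -/
noncomputable def h0T (K : Type u) [Field K] [Fintype K] [CharP K 3] (m : ℕ) : ↥(twistedG2 K (3 ^ m)) :=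
  ⟨h0, by rw [h0_eq_reeH m]; exact h0_mem_twisted⟩

theorem h0T_sq : h0T K m * h0T K m = 1 := Subtype.ext h0_sq

theorem h0T_ne_one : h0T K m ≠ 1 := fun h => h0_ne_one (congrArg Subtype.val h)

theorem orderOf_h0T : orderOf (h0T K m) = 2 := by
  apply orderOf_eq_prime
  · rw [pow_two, h0T_sq]
  · exact h0T_ne_one

theorem h0T_mem_H : ((h0T K m : ↥(twistedG2 K (3 ^ m))) : GL chevG2.Idx K) ∈ chevG2.diagonalSubgroup K := by
  show (h0 : GL chevG2.Idx K) ∈ _
  rw [h0_eq_reeH m]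
  exact reeH_mem_H _ _

/-- All involutions of `²G₂(q)` are conjugate to `h₀`. -/
theorem invol_conj (hm : 1 ≤ m) (hK : Fintype.card K = 3 ^ (2 * m + 1)) (t : ↥(twistedG2 K (3 ^ m)))
    (ht : orderOf t = 2) : ∃ g : ↥(twistedG2 K (3 ^ m)), t = g * h0T K m * g⁻¹ := by
  obtain ⟨S⟩ : Nonempty (Sylow 2 ↥(twistedG2 K (3 ^ m))) := inferInstance
  obtain ⟨-, hS⟩ := Cfsg.Agent.S1152.result hK (h0T K m) h0T_mem_H h0T_ne_one h0T_sq
  obtain ⟨hC, hN⟩ := Cfsg.Agent.S1157.result hm hK S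
  exact involutions_conj S (hS S).1 (hS S).2 hC hN (h0T K m) t orderOf_h0T ht

/-- The centraliser of every involution is `Z₂ × PSL₂(q)`. -/
theorem invol_iso (hm : 1 ≤ m) (hK : Fintype.card K = 3 ^ (2 * m + 1)) (t : ↥(twistedG2 K (3 ^ m)))
    (ht : orderOf t = 2) :
    Nonempty (↥(Subgroup.centralizer {t}) ≃* Multiplicative (ZMod 2) × Matrix.ProjectiveSpecialLinearGroup (Fin 2) K) := by
  obtain ⟨g, rfl⟩ := invol_conj hm hK t ht
  obtain ⟨⟨e⟩, -⟩ := Cfsg.Agent.S1152.result hK (h0T K m) h0T_mem_H h0T_ne_one h0T_sq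
  have hmap : (Subgroup.centralizer {h0T K m}).map (MulAut.conj g).toMonoidHom
      = Subgroup.centralizer {g * h0T K m * g⁻¹} := by
    ext w
    rw [Subgroup.mem_map, Subgroup.mem_centralizer_singleton_iff]
    constructor
    · rintro ⟨x, hx, rfl⟩
      rw [Subgroup.mem_centralizer_singleton_iff] at hx
      show g * x * g⁻¹ * (g * h0T K m * g⁻¹) = g * h0T K m * g⁻¹ * (g * x * g⁻¹)
      calc g * x * g⁻¹ * (g * h0T K m * g⁻¹) = g * (x * h0T K m) * g⁻¹ := by group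
        _ = g * (h0T K m * x) * g⁻¹ := by rw [hx]
        _ = _ := by group
    · intro hw
      refine ⟨g⁻¹ * w * g, ?_, ?_⟩
      · rw [Subgroup.mem_centralizer_singleton_iff]
        calc g⁻¹ * w * g * h0T K m = g⁻¹ * (w * (g * h0T K m * g⁻¹)) * g := by group
          _ = g⁻¹ * ((g * h0T K m * g⁻¹) * w) * g := by rw [hw]
          _ = _ := by group
      · show g * (g⁻¹ * w * g) * g⁻¹ = w
        group
  have e1 := (Subgroup.centralizer {h0T K m}).equivMapOfInjective (MulAut.conj g).toMonoidHom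
    (MulAut.conj g).injective
  rw [hmap] at e1
  exact ⟨e1.symm.trans e⟩

/-- A cyclic subgroup of `Φ(SL₂(q))` carrying the `p`-part of `q + 1`, `p` odd. -/
theorem exists_cyclic_add_one' (hK : Fintype.card K = 3 ^ (2 * m + 1)) (p : ℕ) [Fact p.Prime] (hp2 : p ≠ 2) :
    ∃ C : Subgroup ↥(twistedG2 K (3 ^ m)), IsCyclic ↥C ∧
      Nat.card ↥C = p ^ (3 ^ (2 * m + 1) + 1).factorization p ∧ C ≤ (PhiT K m).range := by
  have hq := hq_of_card' hK
  haveI : Fact (Nat.Prime 3) := ⟨by norm_num⟩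
  obtain ⟨T, hT, hTc⟩ := Cfsg.Agent.Lib.Helper5.exists_cyclic_card_add_one (F := K) 3
  haveI := hT
  obtain ⟨R⟩ : Nonempty (Sylow p ↥T) := inferInstance
  have hRc : Nat.card ↥(R : Subgroup ↥T) = p ^ (3 ^ (2 * m + 1) + 1).factorization p := by
    rw [R.card_eq_multiplicity, hTc, hK]
  let R' : Subgroup SL(2, K) := (R : Subgroup ↥T).map T.subtype
  have e1 := (R : Subgroup ↥T).equivMapOfInjective T.subtype T.subtype_injective
  have hR'p : IsPGroup p ↥R' := R.isPGroup'.map T.subtype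
  let f : ↥R' →* ↥(twistedG2 K (3 ^ m)) := (PhiT K m).comp R'.subtype
  have hinj : Function.Injective f := by
    rw [injective_iff_map_eq_one]
    intro x hx
    have h2 : (x : SL(2, K)) * (x : SL(2, K)) = 1 := PhiT_eq_one hq _ hx
    have h2' : x ^ 2 = 1 := by
      apply Subtype.ext
      rw [pow_two]
      exact h2
    obtain ⟨k, hk⟩ := hR'p x
    have hd1 : orderOf x ∣ 2 := orderOf_dvd_of_pow_eq_one h2'
    have hd2 : orderOf x ∣ p ^ k := orderOf_dvd_of_pow_eq_one hk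
    have hcop : Nat.Coprime 2 (p ^ k) := by
      apply Nat.Coprime.pow_right
      rw [Nat.coprime_primes Nat.prime_two Fact.out]
      exact fun h => hp2 h.symm
    have := Nat.eq_one_of_dvd_coprimes hcop hd1 hd2
    exact orderOf_eq_one_iff.mp this
  have e2 := MonoidHom.ofInjective hinj
  refine ⟨f.range, ?_, ?_, ?_⟩
  · haveI : IsCyclic ↥(R : Subgroup ↥T) := inferInstance
    exact isCyclic_of_surjective (e2.toMonoidHom.comp e1.toMonoidHom)
      (e2.surjective.comp e1.surjective)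
  · rw [← Nat.card_congr e2.toEquiv, ← Nat.card_congr e1.toEquiv, hRc]
  · rintro _ ⟨x, rfl⟩
    exact ⟨(x : SL(2, K)), rfl⟩

/-- Arithmetic facts on an odd prime `s ∣ q + 1`, `q = 3^e`. -/
theorem prime_add_one_facts (e : ℕ) (s : ℕ) (hs : s.Prime) (hs2 : s ≠ 2) (hsq : s ∣ 3 ^ e + 1) :
    s ≠ 3 ∧ 3 < s ∧ ¬ s ∣ 3 ^ e ∧ ¬ s ∣ 3 ^ e - 1 := by
  have h2 : ¬ s ∣ 2 := fun h => hs2 ((Nat.prime_dvd_prime_iff_eq hs Nat.prime_two).mp h)
  have hq : 0 < 3 ^ e := by positivity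
  have hnq : ¬ s ∣ 3 ^ e := by
    intro h
    have := (Nat.dvd_add_right h).mp hsq
    exact hs.one_lt.ne' (Nat.dvd_one.mp this)
  have h3 : s ≠ 3 := by
    rintro rfl
    rcases Nat.eq_zero_or_pos e with rfl | he
    · norm_num at hsq
    · exact hnq (dvd_pow_self 3 he.ne')
  refine ⟨h3, ?_, hnq, ?_⟩
  · have := hs.two_le
    rcases Nat.lt_or_ge 3 s with h | h
    · exact h
    · interval_cases s
      · exact absurd rfl hs2
      · exact absurd rfl h3
  · intro h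
    have := Nat.dvd_sub hsq h
    have e1 : 3 ^ e + 1 - (3 ^ e - 1) = 2 := by omega
    rw [e1] at this
    exact h2 this

/-- The `s`-part of `|²G₂(q)|` for an odd prime `s ∣ q + 1`. -/
theorem factorization_add_one (e : ℕ) (s : ℕ) (hs : s.Prime) (hs2 : s ≠ 2) (hsq : s ∣ 3 ^ e + 1) :
    ((3 ^ e) ^ 3 * (3 ^ e - 1) * ((3 ^ e) ^ 3 + 1)).factorization s = (3 ^ e + 1).factorization s := by
  obtain ⟨h3, hlt, hnq, hn1⟩ := prime_add_one_facts e s hs hs2 hsq
  rcases arith (3 ^ e) s (by positivity) hs hlt hnq with ⟨h, -⟩ | ⟨-, h⟩ | ⟨h, -⟩ | h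
  · exact absurd h hn1
  · exact h
  · exact absurd hsq h
  · exfalso
    apply h
    have : 3 ^ e + 1 ∣ (3 ^ e) ^ 3 + 1 := by
      have := Odd.nat_add_dvd_pow_add_pow (3 ^ e) 1 (n := 3) (by decide)
      rwa [one_pow] at this
    exact Dvd.dvd.mul_left (hsq.trans this) _

/-- An element of odd prime order `s ∣ q + 1` commutes with an involution. -/
theorem exists_invol_commute (hK : Fintype.card K = 3 ^ (2 * m + 1)) (a : ↥(twistedG2 K (3 ^ m))) (s : ℕ)
    (hs : s.Prime) (hs2 : s ≠ 2) (hsq : s ∣ 3 ^ (2 * m + 1) + 1) (ha : orderOf a = s) :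
    ∃ t : ↥(twistedG2 K (3 ^ m)), orderOf t = 2 ∧ t * a = a * t := by
  haveI : Fact s.Prime := ⟨hs⟩
  obtain ⟨C, -, hCc, hCle⟩ := exists_cyclic_add_one' (K := K) (m := m) hK s hs2
  have hfac : (Nat.card ↥(twistedG2 K (3 ^ m))).factorization s = (Nat.card ↥C).factorization s := by
    rw [ree_card hK, hCc, factorization_add_one _ s hs hs2 hsq, Nat.Prime.factorization_pow hs,
      Finsupp.single_eq_same]
  have hp : IsPGroup s ↥(Subgroup.zpowers a) := by
    apply IsPGroup.of_card (n := 1)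
    rw [Nat.card_zpowers, ha, pow_one]
  obtain ⟨g, hg⟩ := exists_conj_mem_of_factorization C hfac (Subgroup.zpowers a) hp
  obtain ⟨A, hA⟩ := hCle (hg a (Subgroup.mem_zpowers a))
  have hcomm : h0T K m * (g * a * g⁻¹) = (g * a * g⁻¹) * h0T K m := by
    rw [← hA]
    apply Subtype.ext
    exact h0_comm_Phi m A
  refine ⟨g⁻¹ * h0T K m * g, ?_, ?_⟩
  · have : g⁻¹ * h0T K m * g = (MulAut.conj g⁻¹) (h0T K m) := by simp [MulAut.conj_apply]
    rw [this, MulEquiv.orderOf_eq, orderOf_h0T]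
  · calc g⁻¹ * h0T K m * g * a = g⁻¹ * (h0T K m * (g * a * g⁻¹)) * g := by group
      _ = g⁻¹ * ((g * a * g⁻¹) * h0T K m) * g := by rw [hcomm]
      _ = _ := by group

end Cfsg.Agent.Lib.Helper61.ReeW
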