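/-
helper61 (project REEW): an element of `²G₂(q)` commuting with a non-trivial 3-element has order dividing a power of
`q³ (q - 1)`; in particular no element of prime order `s ∤ q (q - 1)` commutes with an element of order 3.
-/
import Cfsg.Agent.Lib.Helper61.ReeW.Torus
import Cfsg.Agent.Lib.Helper20.ReeStab

set_option autoImplicit false
set_option linter.unusedSectionVars false

namespace Cfsg.Agent.Lib.Helper61.ReeW

open Cfsg.Lie Cfsg.Agent.Lib.Helper19.ReeAbs Cfsg.Agent.Lib.Helper61.ReeInv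
open Cfsg.Agent.Lib.Helper90.ReeW

universe u

variable {K : Type u} [Field K] [Fintype K] [CharP K 3] {m : ℕ}

/-- In `U ⋊ H` an element whose order is prime to `|U|` and `|H|` is trivial. -/
theorem eq_one_of_pow_of_semidirect {Γ : Type*} [Group Γ] (U H : Subgroup Γ) [Finite U] [Finite H]
    (hnorm : ∀ h ∈ H, ∀ u ∈ U, h * u * h⁻¹ ∈ U) (hdisj : ∀ x ∈ U, x ∈ H → x = 1) (s : ℕ)
    (hsU : s.Coprime (Nat.card U)) (hsH : s.Coprime (Nat.card H)) (u h : Γ) (hu : u ∈ U) (hh : h ∈ H)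
    (hc : (u * h) ^ s = 1) : u * h = 1 := by
  have key : ∀ k : ℕ, ∃ w ∈ U, (u * h) ^ k = w * h ^ k := by
    intro k
    induction k with
    | zero => exact ⟨1, one_mem _, by simp⟩
    | succ k ih =>
      obtain ⟨w, hw, e⟩ := ih
      refine ⟨w * (h ^ k * u * (h ^ k)⁻¹), mul_mem hw (hnorm _ (pow_mem hh k) u hu), ?_⟩
      rw [pow_succ, e, pow_succ]
      group
  obtain ⟨w, hw, e⟩ := key s
  rw [hc] at e
  have hhs : h ^ s = w⁻¹ := by
    have : w⁻¹ * 1 = w⁻¹ * (w * h ^ s) := by rw [e]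
    rw [mul_one, inv_mul_cancel_left] at this
    exact this.symm
  have hhs1 : h ^ s = 1 := hdisj _ (by rw [hhs]; exact inv_mem hw) (pow_mem hh s)
  have hhc : h ^ Nat.card H = 1 := by
    have := pow_card_eq_one' (G := H) (x := ⟨h, hh⟩)
    exact congrArg Subtype.val this
  have hh1 : h = 1 := by
    have := pow_gcd_eq_one.mpr ⟨hhs1, hhc⟩
    rw [Nat.Coprime.gcd_eq_one hsH, pow_one] at this
    exact this
  rw [hh1, mul_one] at hc ⊢
  have huc : u ^ Nat.card U = 1 := by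
    have := pow_card_eq_one' (G := U) (x := ⟨u, hu⟩)
    exact congrArg Subtype.val this
  have := pow_gcd_eq_one.mpr ⟨hc, huc⟩
  rw [Nat.Coprime.gcd_eq_one hsU, pow_one] at this
  exact this

/-- An element commuting with a non-trivial element of `U¹` lies in `B¹ = U¹ H¹`. -/
theorem cent_three (hK : Fintype.card K = 3 ^ (2 * m + 1)) (y c : ↥(twistedG2 K (3 ^ m)))
    (hyU : (y : GL chevG2.Idx K) ∈ chevG2.posUnipotent K) (hy1 : y ≠ 1) (hc : c * y = y * c) :
    ∃ u ∈ (chevG2.posUnipotent K).subgroupOf (twistedG2 K (3 ^ m)),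
      ∃ h ∈ (chevG2.diagonalSubgroup K).subgroupOf (twistedG2 K (3 ^ m)), c = u * h := by
  have hq := hq_of_card' hK
  obtain ⟨n₀, hn₀, hn₀1, hl₀⟩ := (reeTw K m hq).exists_long
  have D := Cfsg.Agent.Lib.Helper20.ReeStab.dataTI (reeTw K m hq) n₀ hn₀ hn₀1 hl₀
  have hyU' : y ∈ Cfsg.Agent.Lib.Helper20.ReeStab.U1 (reeTw K m hq) := Subgroup.mem_subgroupOf.mpr hyU
  have hg : c * y * c⁻¹ ∈ Cfsg.Agent.Lib.Helper20.ReeStab.U1 (reeTw K m hq) := by
    rw [hc, mul_inv_cancel_right]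
    exact hyU'
  exact Cfsg.Agent.Lib.Helper20.RankOneTI.mem_borel_of_conj D hyU' hy1 hg

/-- `U¹` as a subgroup of `²G₂(q)`. -/
noncomputable def Us (K : Type u) [Field K] [Fintype K] (m : ℕ) : Subgroup ↥(twistedG2 K (3 ^ m)) :=
  (chevG2.posUnipotent K).subgroupOf (twistedG2 K (3 ^ m))

theorem card_Us (hK : Fintype.card K = 3 ^ (2 * m + 1)) : Nat.card ↥(Us K m) = (3 ^ (2 * m + 1)) ^ 3 := by
  unfold Us
  rw [← Subgroup.inf_subgroupOf_right (chevG2.posUnipotent K) (twistedG2 K (3 ^ m)),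
    Nat.card_congr (Subgroup.subgroupOfEquivOfLe
      (inf_le_right : chevG2.posUnipotent K ⊓ twistedG2 K (3 ^ m) ≤ twistedG2 K (3 ^ m))).toEquiv]
  exact (Cfsg.Agent.S1101.main hK).2

theorem factorization_three (e : ℕ) (he : 0 < e) :
    ((3 ^ e) ^ 3 * (3 ^ e - 1) * ((3 ^ e) ^ 3 + 1)).factorization 3 = ((3 ^ e) ^ 3).factorization 3 := by
  have h3q : 3 ∣ 3 ^ e := dvd_pow_self 3 he.ne'
  have hq : 0 < 3 ^ e := by positivity
  have hgt : 1 < 3 ^ e := Nat.one_lt_pow he.ne' (by norm_num)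
  have h1 : ¬ 3 ∣ 3 ^ e - 1 := by
    intro h
    have := Nat.dvd_sub h3q h
    have e1 : 3 ^ e - (3 ^ e - 1) = 1 := by omega
    rw [e1] at this
    norm_num at this
  have h2 : ¬ 3 ∣ (3 ^ e) ^ 3 + 1 := by
    intro h
    have h3 : 3 ∣ (3 ^ e) ^ 3 := dvd_pow h3q (by norm_num)
    have := (Nat.dvd_add_right h3).mp h
    norm_num at this
  have hq30 : (3 ^ e) ^ 3 ≠ 0 := by positivity
  have hq1 : 3 ^ e - 1 ≠ 0 := by omega
  have h30 : (3 ^ e) ^ 3 + 1 ≠ 0 := by omega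
  rw [Nat.factorization_mul (Nat.mul_ne_zero hq30 hq1) h30, Nat.factorization_mul hq30 hq1, Finsupp.add_apply,
    Finsupp.add_apply, Nat.factorization_eq_zero_of_not_dvd h1, Nat.factorization_eq_zero_of_not_dvd h2,
    add_zero, add_zero]

/-- No element of prime order `s ∤ 3 (q - 1)` commutes with an element of order `3`. -/
theorem no_three_commute (hK : Fintype.card K = 3 ^ (2 * m + 1)) (s : ℕ) (hs : s.Prime) (hs3 : s ≠ 3)
    (hsq : ¬ s ∣ 3 ^ (2 * m + 1) - 1) (a y : ↥(twistedG2 K (3 ^ m))) (ha : orderOf a = s) (hy : orderOf y = 3)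
    (hc : a * y = y * a) : False := by
  have hq := hq_of_card' hK
  haveI : Fact (Nat.Prime 3) := ⟨Nat.prime_three⟩
  have hfac : (Nat.card ↥(twistedG2 K (3 ^ m))).factorization 3 = (Nat.card ↥(Us K m)).factorization 3 := by
    rw [ree_card hK, card_Us hK]
    exact factorization_three (2 * m + 1) (by omega)
  have hp : IsPGroup 3 ↥(Subgroup.zpowers y) := by
    apply IsPGroup.of_card (n := 1)
    rw [Nat.card_zpowers, hy, pow_one]
  obtain ⟨g, hg⟩ := exists_conj_mem_of_factorization (Us K m) hfac (Subgroup.zpowers y) hp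
  have hy' : g * y * g⁻¹ ∈ Us K m := hg y (Subgroup.mem_zpowers y)
  have hy1 : y ≠ 1 := by
    intro h
    rw [h, orderOf_one] at hy
    norm_num at hy
  have hy'1 : g * y * g⁻¹ ≠ 1 := by
    intro h
    apply hy1
    have : y = g⁻¹ * (g * y * g⁻¹) * g := by group
    rw [this, h]; group
  have hc' : (g * a * g⁻¹) * (g * y * g⁻¹) = (g * y * g⁻¹) * (g * a * g⁻¹) := by
    calc (g * a * g⁻¹) * (g * y * g⁻¹) = g * (a * y) * g⁻¹ := by group
      _ = g * (y * a) * g⁻¹ := by rw [hc]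
      _ = (g * y * g⁻¹) * (g * a * g⁻¹) := by group
  obtain ⟨u, hu, h, hh, e⟩ := cent_three hK (g * y * g⁻¹) (g * a * g⁻¹) (Subgroup.mem_subgroupOf.mp hy') hy'1 hc'
  have hhH : h ∈ Hs K m := (mem_Hs h).mpr (Subgroup.mem_subgroupOf.mp hh)
  have hnorm : ∀ h ∈ Hs K m, ∀ u ∈ Us K m, h * u * h⁻¹ ∈ Us K m := by
    intro h hh u hu
    exact Subgroup.mem_subgroupOf.mpr
      ((reeTw K m hq).H_norm_U _ ((mem_Hs h).mp hh) _ (Subgroup.mem_subgroupOf.mp hu))
  have hdisj : ∀ x ∈ Us K m, x ∈ Hs K m → x = 1 := by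
    intro x hxU hxH
    apply Subtype.ext
    exact (reeTw K m hq).U_inf_H _ (Subgroup.mem_subgroupOf.mp hxU) ((mem_Hs x).mp hxH)
  have hcopU : s.Coprime (Nat.card ↥(Us K m)) := by
    rw [card_Us hK, ← pow_mul]
    apply Nat.Coprime.pow_right
    rw [Nat.coprime_primes hs Nat.prime_three]
    exact hs3
  have hcopH : s.Coprime (Nat.card ↥(Hs K m)) := by
    rw [card_Hs hK]
    exact (Nat.Prime.coprime_iff_not_dvd hs).mpr hsq
  have hpow : (u * h) ^ s = 1 := by
    rw [← e]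
    have : (g * a * g⁻¹) ^ s = g * a ^ s * g⁻¹ := conj_pow
    rw [this, ← ha, pow_orderOf_eq_one]
    group
  have h1 := eq_one_of_pow_of_semidirect (Us K m) (Hs K m) hnorm hdisj s hcopU hcopH u h hu hhH hpow
  rw [← e] at h1
  have ha1 : a = 1 := by
    have : a = g⁻¹ * (g * a * g⁻¹) * g := by group
    rw [this, h1]; group
  rw [ha1, orderOf_one] at ha
  exact hs.one_lt.ne ha

end Cfsg.Agent.Lib.Helper61.ReeW
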