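/-
helper61 (project REEW): **Lemma C1**.  The centraliser in `²G₂(q)` of an element of odd prime order `s ∣ q + 1` is
commutative of order `q + 1` and has no element of order `4`.
-/
import Cfsg.Agent.Lib.Helper61.ReeW.Invol
import Cfsg.Agent.Lib.Helper61.ReeW.Three
import Cfsg.Agent.Lib.Helper36.ReeWPsl2
import Cfsg.Agent.Lib.Helper86.ReeWZ2PslCore
import Cfsg.Agent.Lib.Helper76.ReeWFour

set_option autoImplicit false
set_option linter.unusedSectionVars false

namespace Cfsg.Agent.Lib.Helper61.ReeW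

open Cfsg.Lie Cfsg.Agent.Lib.Helper61.ReeInv
open Cfsg.Agent.Lib.Helper76.ReeW

universe u

/-- `C_{C(a)}(b) ≅ C_{C(b)}(a)`. -/
def centSwap {G : Type*} [Group G] (a b : G) (ha : a ∈ Subgroup.centralizer {b})
    (hb : b ∈ Subgroup.centralizer {a}) :
    ↥(Subgroup.centralizer {(⟨b, hb⟩ : ↥(Subgroup.centralizer {a}))}) ≃*
      ↥(Subgroup.centralizer {(⟨a, ha⟩ : ↥(Subgroup.centralizer {b}))}) where
  toFun x := ⟨⟨x.1.1, by
      have h := Subgroup.mem_centralizer_singleton_iff.mp x.2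
      exact Subgroup.mem_centralizer_singleton_iff.mpr (congrArg Subtype.val h)⟩, by
      rw [Subgroup.mem_centralizer_singleton_iff]
      apply Subtype.ext
      exact Subgroup.mem_centralizer_singleton_iff.mp x.1.2⟩
  invFun x := ⟨⟨x.1.1, by
      have h := Subgroup.mem_centralizer_singleton_iff.mp x.2
      exact Subgroup.mem_centralizer_singleton_iff.mpr (congrArg Subtype.val h)⟩, by
      rw [Subgroup.mem_centralizer_singleton_iff]
      apply Subtype.ext
      exact Subgroup.mem_centralizer_singleton_iff.mp x.1.2⟩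
  left_inv x := rfl
  right_inv x := rfl
  map_mul' x y := rfl

theorem centSwap_coe {G : Type*} [Group G] (a b : G) (ha : a ∈ Subgroup.centralizer {b})
    (hb : b ∈ Subgroup.centralizer {a}) (x : ↥(Subgroup.centralizer {(⟨b, hb⟩ : ↥(Subgroup.centralizer {a}))})) :
    (((centSwap a b ha hb x : ↥(Subgroup.centralizer {(⟨a, ha⟩ : ↥(Subgroup.centralizer {b}))})) :
      ↥(Subgroup.centralizer {b})) : G) = ((x : ↥(Subgroup.centralizer {a})) : G) := rfl

/-- [W-Z2PSL] from its core (helper86) and [W-PSL2] (helper36). -/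
theorem z2psl2_centralizer {K : Type*} [Field K] [Fintype K] (hq : Fintype.card K % 8 = 3) {C : Type*} [Group C]
    (e : C ≃* Multiplicative (ZMod 2) × Matrix.ProjectiveSpecialLinearGroup (Fin 2) K)
    (s : ℕ) (hs : s.Prime) (hs2 : s ≠ 2) (hsq : s ∣ Fintype.card K + 1) (a : C) (ha : orderOf a = s) :
    (∀ x ∈ Subgroup.centralizer ({a} : Set C), ∀ y ∈ Subgroup.centralizer ({a} : Set C), x * y = y * x) ∧
    Nat.card ↥(Subgroup.centralizer ({a} : Set C)) = Fintype.card K + 1 ∧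
    ∀ x ∈ Subgroup.centralizer ({a} : Set C), orderOf x ≠ 4 :=
  Cfsg.Agent.Lib.Helper86.ReeW.z2_prod_centralizer (Fintype.card K) hq e s hs hs2 a ha
    (fun b hb => Cfsg.Agent.Lib.Helper36.ReeW.psl2_centralizer hq s hs hs2 hsq b hb)

theorem three_pow_mod_eight' (m : ℕ) : 3 ^ (2 * m + 1) % 8 = 3 := by
  rw [pow_succ, pow_mul, Nat.mul_mod, Nat.pow_mod]
  norm_num

variable {K : Type u} [Field K] [Fintype K] [CharP K 3] {m : ℕ}

/-- For an involution `t` of `D = C(a)`: `C_D(t)` is commutative of order `q + 1` without elements of order 4. -/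
theorem cent_invol_facts (hm : 1 ≤ m) (hK : Fintype.card K = 3 ^ (2 * m + 1)) (a : ↥(twistedG2 K (3 ^ m))) (s : ℕ)
    (hs : s.Prime) (hs2 : s ≠ 2) (hsq : s ∣ 3 ^ (2 * m + 1) + 1) (ha : orderOf a = s)
    (t : ↥(Subgroup.centralizer {a})) (ht : orderOf t = 2) :
    (∀ x ∈ Subgroup.centralizer {t}, ∀ y ∈ Subgroup.centralizer {t}, x * y = y * x) ∧
    Nat.card ↥(Subgroup.centralizer {t}) = 3 ^ (2 * m + 1) + 1 ∧
    ∀ x ∈ Subgroup.centralizer {t}, orderOf x ≠ 4 := by
  have ht' : orderOf (t : ↥(twistedG2 K (3 ^ m))) = 2 := by rw [Subgroup.orderOf_coe]; exact ht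
  have hta : (t : ↥(twistedG2 K (3 ^ m))) * a = a * t := Subgroup.mem_centralizer_singleton_iff.mp t.2
  have haC : a ∈ Subgroup.centralizer {(t : ↥(twistedG2 K (3 ^ m)))} :=
    Subgroup.mem_centralizer_singleton_iff.mpr hta.symm
  obtain ⟨e⟩ := invol_iso hm hK (t : ↥(twistedG2 K (3 ^ m))) ht'
  have ha' : orderOf (⟨a, haC⟩ : ↥(Subgroup.centralizer {(t : ↥(twistedG2 K (3 ^ m)))})) = s := by
    rw [← Subgroup.orderOf_coe]
    exact ha
  have hq8 : Fintype.card K % 8 = 3 := by rw [hK]; exact three_pow_mod_eight' m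
  obtain ⟨f1, f2, f3⟩ := z2psl2_centralizer hq8 e s hs hs2 (by rw [hK]; exact hsq) ⟨a, haC⟩ ha'
  let φ := centSwap a (t : ↥(twistedG2 K (3 ^ m))) haC t.2
  refine ⟨?_, ?_, ?_⟩
  · intro x hx y hy
    have h := f1 (φ ⟨x, hx⟩).1 (φ ⟨x, hx⟩).2 (φ ⟨y, hy⟩).1 (φ ⟨y, hy⟩).2
    have h' : φ (⟨x, hx⟩ * ⟨y, hy⟩) = φ (⟨y, hy⟩ * ⟨x, hx⟩) := by
      rw [map_mul, map_mul]
      exact Subtype.ext h
    exact congrArg Subtype.val (φ.injective h')
  · rw [← hK, ← f2]
    exact Nat.card_congr φ.toEquiv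
  · intro x hx
    have h := f3 (φ ⟨x, hx⟩).1 (φ ⟨x, hx⟩).2
    rw [Subgroup.orderOf_coe, MulEquiv.orderOf_eq, ← Subgroup.orderOf_coe] at h
    exact h

theorem comm_of_sq {D : Type*} [Group D] (x y : D) (hx : x * x = 1) (hy : y * y = 1) (hxy : (x * y) * (x * y) = 1) :
    x * y = y * x := by
  have hxi : x⁻¹ = x := inv_eq_of_mul_eq_one_left hx
  have hyi : y⁻¹ = y := inv_eq_of_mul_eq_one_left hy
  have : x * y = (x * y)⁻¹ := (inv_eq_of_mul_eq_one_left hxy).symm
  rw [this, mul_inv_rev, hxi, hyi]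

/-- **Lemma C1**. -/
theorem centralizer_add_one (hm : 1 ≤ m) (hK : Fintype.card K = 3 ^ (2 * m + 1)) (a : ↥(twistedG2 K (3 ^ m)))
    (s : ℕ) (hs : s.Prime) (hs2 : s ≠ 2) (hsq : s ∣ 3 ^ (2 * m + 1) + 1) (ha : orderOf a = s) :
    (∀ y z : ↥(twistedG2 K (3 ^ m)), y * a = a * y → z * a = a * z → y * z = z * y) ∧
    Nat.card ↥(Subgroup.centralizer {a}) = 3 ^ (2 * m + 1) + 1 ∧
    ∀ x ∈ Subgroup.centralizer {a}, orderOf x ≠ 4 := by
  classical
  obtain ⟨hs3, -, -, hn1⟩ := prime_add_one_facts (2 * m + 1) s hs hs2 hsq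
  have hq8 := three_pow_mod_eight' m
  -- the exponent of the 2-subgroups
  have hexp : ∀ x : ↥(Subgroup.centralizer {a}), (∃ k : ℕ, x ^ 2 ^ k = 1) → x * x = 1 := by
    rintro x ⟨k, hk⟩
    have hk' : (x : ↥(twistedG2 K (3 ^ m))) ^ 2 ^ k = 1 := by
      have := congrArg Subtype.val hk
      simpa using this
    obtain ⟨j, -, hj⟩ := (Nat.dvd_prime_pow Nat.prime_two).mp (orderOf_dvd_of_pow_eq_one hk')
    have hp : IsPGroup 2 ↥(Subgroup.zpowers (x : ↥(twistedG2 K (3 ^ m)))) := by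
      apply IsPGroup.of_card (n := j)
      rw [Nat.card_zpowers, hj]
    obtain ⟨S, hS⟩ := hp.exists_le_sylow
    obtain ⟨-, hS2⟩ := Cfsg.Agent.S1152.result hK (h0T K m) h0T_mem_H h0T_ne_one h0T_sq
    apply Subtype.ext
    exact (hS2 S).2 _ (hS (Subgroup.mem_zpowers _))
  -- an involution of `D`
  obtain ⟨t₀, ht₀, ht₀a⟩ := exists_invol_commute hK a s hs hs2 hsq ha
  let t₀' : ↥(Subgroup.centralizer {a}) := ⟨t₀, Subgroup.mem_centralizer_singleton_iff.mpr ht₀a⟩
  have ht₀' : orderOf t₀' = 2 := by rw [← Subgroup.orderOf_coe]; exact ht₀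
  obtain ⟨E⟩ : Nonempty (Sylow 2 ↥(Subgroup.centralizer {a})) := inferInstance
  have hEexp : ∀ x ∈ (E : Subgroup ↥(Subgroup.centralizer {a})), x * x = 1 := by
    intro x hx
    apply hexp x
    obtain ⟨k, hk⟩ := E.isPGroup' ⟨x, hx⟩
    exact ⟨k, by simpa using congrArg Subtype.val hk⟩
  have hEcomm : ∀ x ∈ (E : Subgroup ↥(Subgroup.centralizer {a})),
      ∀ y ∈ (E : Subgroup ↥(Subgroup.centralizer {a})), x * y = y * x := fun x hx y hy =>
    comm_of_sq x y (hEexp x hx) (hEexp y hy) (hEexp _ (mul_mem hx hy))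
  -- facts on involutions of `E`
  have hinv : ∀ t ∈ (E : Subgroup ↥(Subgroup.centralizer {a})), t ≠ 1 → orderOf t = 2 := by
    intro t ht ht1
    exact orderOf_eq_prime (by rw [pow_two]; exact hEexp t ht) ht1
  have hEle : ∀ t ∈ (E : Subgroup ↥(Subgroup.centralizer {a})),
      (E : Subgroup ↥(Subgroup.centralizer {a})) ≤ Subgroup.centralizer {t} := by
    intro t ht x hx
    rw [Subgroup.mem_centralizer_singleton_iff]
    exact hEcomm x hx t ht
  -- `|E| = 4`
  have h2D : 2 ∣ Nat.card ↥(Subgroup.centralizer {a}) := by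
    rw [← ht₀']
    exact orderOf_dvd_natCard t₀'
  have hEne : (E : Subgroup ↥(Subgroup.centralizer {a})) ≠ ⊥ := by
    intro h
    have h1 : Nat.card ↥(E : Subgroup ↥(Subgroup.centralizer {a})) = 1 := by rw [h]; exact Subgroup.card_bot
    have h2 : 2 ^ 1 ∣ Nat.card ↥(E : Subgroup ↥(Subgroup.centralizer {a})) :=
      E.pow_dvd_card_of_pow_dvd_card (by rw [pow_one]; exact h2D)
    rw [h1] at h2
    norm_num at h2
  obtain ⟨t₁, ht₁1⟩ := (Subgroup.ne_bot_iff_exists_ne_one.mp hEne)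
  have ht₁E' : (t₁ : ↥(Subgroup.centralizer {a})) ∈ (E : Subgroup ↥(Subgroup.centralizer {a})) := t₁.2
  have ht₁1' : (t₁ : ↥(Subgroup.centralizer {a})) ≠ 1 := fun h => ht₁1 (Subtype.ext h)
  have ht₁o := hinv _ ht₁E' ht₁1'
  obtain ⟨g1, g2, g3⟩ := cent_invol_facts hm hK a s hs hs2 hsq ha _ ht₁o
  have hE4 : Nat.card ↥(E : Subgroup ↥(Subgroup.centralizer {a})) = 4 := by
    have hd1 : Nat.card ↥(E : Subgroup ↥(Subgroup.centralizer {a})) ∣ 3 ^ (2 * m + 1) + 1 := by
      rw [← g2]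
      exact Subgroup.card_dvd_of_le (hEle _ ht₁E')
    have hd2 : 2 ^ 2 ∣ Nat.card ↥(E : Subgroup ↥(Subgroup.centralizer {a})) := by
      apply E.pow_dvd_card_of_pow_dvd_card
      have h4 : 2 ^ 2 ∣ 3 ^ (2 * m + 1) + 1 := by
        norm_num
        omega
      rw [← g2] at h4
      exact h4.trans (Subgroup.card_subgroup_dvd_card _)
    obtain ⟨k, hk⟩ := E.isPGroup'.exists_card_eq
    rw [hk] at hd1 hd2 ⊢
    have hk2 : 2 ≤ k := by
      by_contra hlt
      have : k ≤ 1 := by omega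
      have := Nat.le_of_dvd (by positivity) hd2
      have h' : 2 ^ k ≤ 2 ^ 1 := Nat.pow_le_pow_right (by norm_num) ‹k ≤ 1›
      omega
    have hk3 : k < 3 := by
      by_contra hge
      have h8 : 2 ^ 3 ∣ 2 ^ k := pow_dvd_pow 2 (by omega)
      have := h8.trans hd1
      norm_num at this
      omega
    have : k = 2 := by omega
    rw [this]
    norm_num
  -- all `C_D(t)` coincide
  have hY : ∀ t ∈ (E : Subgroup ↥(Subgroup.centralizer {a})), t ≠ 1 →
      Subgroup.centralizer {t} = Subgroup.centralizer {(t₁ : ↥(Subgroup.centralizer {a}))} := by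
    intro t ht ht1
    obtain ⟨k1, -, -⟩ := cent_invol_facts hm hK a s hs hs2 hsq ha t (hinv t ht ht1)
    apply le_antisymm
    · intro x hx
      rw [Subgroup.mem_centralizer_singleton_iff]
      exact k1 x hx _ (hEle t ht ht₁E')
    · intro x hx
      rw [Subgroup.mem_centralizer_singleton_iff]
      exact g1 x hx _ (hEle _ ht₁E' ht)
  -- no elements of order 3
  have h3 : ∀ x : ↥(Subgroup.centralizer {a}), x ^ 3 = 1 → x = 1 := by
    intro x hx
    by_contra hx1
    have hxo : orderOf x = 3 := orderOf_eq_prime hx hx1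
    have hxo' : orderOf (x : ↥(twistedG2 K (3 ^ m))) = 3 := by rw [Subgroup.orderOf_coe]; exact hxo
    have hxa : (x : ↥(twistedG2 K (3 ^ m))) * a = a * x := Subgroup.mem_centralizer_singleton_iff.mp x.2
    exact no_three_commute hK s hs hs3 hn1 a x ha hxo' hxa.symm
  have htop := eq_top_of_four_sylow E hE4 hEexp h3 _ hY
  have hall : ∀ x : ↥(Subgroup.centralizer {a}),
      x ∈ Subgroup.centralizer {(t₁ : ↥(Subgroup.centralizer {a}))} := by
    intro x
    rw [htop]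
    exact Subgroup.mem_top x
  refine ⟨?_, ?_, ?_⟩
  · intro y z hy hz
    have := g1 ⟨y, Subgroup.mem_centralizer_singleton_iff.mpr hy⟩ (hall _)
      ⟨z, Subgroup.mem_centralizer_singleton_iff.mpr hz⟩ (hall _)
    exact congrArg Subtype.val this
  · rw [← g2, htop, Subgroup.card_top]
  · intro x hx
    have := g3 ⟨x, hx⟩ (hall _)
    rw [← Subgroup.orderOf_coe] at this
    exact this

end Cfsg.Agent.Lib.Helper61.ReeW
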