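/-
helper61 (project REEW): centralisers of the elements of prime order `p ∣ q² - q + 1` of `²G₂(q)` are commutative
(through the faithful seven-dimensional module), and the arithmetic of the four tori.
-/
import Cfsg.Agent.Lib.Helper61.Ree.SylCyc
import Cfsg.Agent.Lib.Helper33.ReeWGL7

set_option autoImplicit false
set_option linter.unusedSectionVars false

namespace Cfsg.Agent.Lib.Helper61.ReeW

open Cfsg.Lie Cfsg.Agent.Lib.Helper61.ReeInv Cfsg.Agent.Lib.Helper61.G2Seven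
open Cfsg.Agent.Lib.Helper33.ReeW

universe u

variable {K : Type u} [Field K] [Fintype K] [CharP K 3] {m : ℕ}

/-- The centraliser of an element of prime order `p ∣ q³ + 1`, `p ∤ q + 1`, `p` odd, is commutative. -/
theorem centralizer_seven (hm : 1 ≤ m) (hK : Fintype.card K = 3 ^ (2 * m + 1)) (x : ↥(twistedG2 K (3 ^ m))) (p : ℕ)
    (hp : p.Prime) (hp2 : p ≠ 2) (h1 : p ∣ (3 ^ (2 * m + 1)) ^ 3 + 1) (h2 : ¬ p ∣ 3 ^ (2 * m + 1) + 1)
    (hx : orderOf x = p) (y z : ↥(twistedG2 K (3 ^ m))) (hy : y * x = x * y) (hz : z * x = x * z) :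
    y * z = z * y := by
  haveI : Fact p.Prime := ⟨hp⟩
  have hinj := rhoT_injective (K := K) hm hK
  apply hinj
  rw [map_mul, map_mul]
  apply commute_of_commute_GL7 p hp2 (by rw [hK]; exact h1) (by rw [hK]; exact h2) (rhoT K m x)
  · rw [orderOf_injective (rhoT K m) hinj x, hx]
  · rw [← map_mul, ← map_mul, hy]
  · rw [← map_mul, ← map_mul, hz]

/-- `p`-subgroups of `²G₂(q)` are cyclic for `p > 3`. -/
theorem pgroup_cyclic_gt_three (hm : 1 ≤ m) (hK : Fintype.card K = 3 ^ (2 * m + 1)) (p : ℕ) (hp : p.Prime)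
    (hp3 : 3 < p) (R : Subgroup ↥(twistedG2 K (3 ^ m))) (hR : IsPGroup p ↥R) : IsCyclic ↥R := by
  haveI : Fact p.Prime := ⟨hp⟩
  obtain ⟨P, hRP⟩ := hR.exists_le_sylow
  haveI := sylow_cyclic hm hK hp3 P
  exact Subgroup.isCyclic_of_le hRP

/-! ### Arithmetic -/

theorem three_pow_mod_eight'' (m : ℕ) : 3 ^ (2 * m + 1) % 8 = 3 := by
  rw [pow_succ, pow_mul, Nat.mul_mod, Nat.pow_mod]
  norm_num

/-- Both `q ± 3^(m+1) + 1` divide `q² - q + 1`. -/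
theorem dvd_N_of_dvd (m d : ℕ)
    (h : d ∣ 3 ^ (2 * m + 1) - 3 ^ (m + 1) + 1 ∨ d ∣ 3 ^ (2 * m + 1) + 3 ^ (m + 1) + 1) :
    d ∣ 3 ^ (2 * m + 1) * (3 ^ (2 * m + 1) - 1) + 1 := by
  have hrq : 3 ^ (m + 1) ≤ 3 ^ (2 * m + 1) := Nat.pow_le_pow_right (by norm_num) (by omega)
  have hq1 : 1 ≤ 3 ^ (2 * m + 1) := Nat.one_le_pow _ _ (by norm_num)
  have hr : (3 ^ (m + 1) : ℤ) * 3 ^ (m + 1) = 3 * 3 ^ (2 * m + 1) := by
    rw [← pow_add, ← pow_succ']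
    congr 1
    omega
  have key : (3 ^ (2 * m + 1) - 3 ^ (m + 1) + 1) * (3 ^ (2 * m + 1) + 3 ^ (m + 1) + 1)
      = 3 ^ (2 * m + 1) * (3 ^ (2 * m + 1) - 1) + 1 := by
    zify [hrq, hq1]
    linear_combination (-1 : ℤ) * hr
  rw [← key]
  rcases h with h | h
  · exact Dvd.dvd.mul_right h _
  · exact Dvd.dvd.mul_left h _

/-- Facts on a prime `p ∣ q² - q + 1`. -/
theorem prime_N_facts (e : ℕ) (he : 0 < e) (p : ℕ) (hp : p.Prime) (h : p ∣ 3 ^ e * (3 ^ e - 1) + 1) :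
    p ≠ 2 ∧ 3 < p ∧ p ∣ (3 ^ e) ^ 3 + 1 ∧ ¬ p ∣ 3 ^ e + 1 := by
  have h3q : 3 ∣ 3 ^ e := dvd_pow_self 3 he.ne'
  have hq2 : 2 ≤ 3 ^ e := by
    calc 2 ≤ 3 ^ 1 := by norm_num
      _ ≤ 3 ^ e := Nat.pow_le_pow_right (by norm_num) he
  have hp2 : p ≠ 2 := by
    rintro rfl
    have hev : Even (3 ^ e * (3 ^ e - 1)) := Nat.even_mul_pred_self _
    obtain ⟨k, hk⟩ := hev
    rw [hk] at h
    omega
  have hp3 : p ≠ 3 := by
    rintro rfl
    have : 3 ∣ 3 ^ e * (3 ^ e - 1) := Dvd.dvd.mul_right h3q _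
    have := (Nat.dvd_add_right this).mp h
    norm_num at this
  have hfac : (3 ^ e) ^ 3 + 1 = (3 ^ e + 1) * (3 ^ e * (3 ^ e - 1) + 1) := by
    obtain ⟨t, ht⟩ : ∃ t, 3 ^ e = t + 1 := ⟨3 ^ e - 1, by omega⟩
    rw [ht, Nat.add_sub_cancel]
    ring
  have hN : 3 ^ e * (3 ^ e - 1) + 1 = (3 ^ e + 1) * (3 ^ e - 2) + 3 := by
    obtain ⟨t, ht⟩ : ∃ t, 3 ^ e = t + 2 := ⟨3 ^ e - 2, by omega⟩
    rw [ht]
    have e1 : t + 2 - 1 = t + 1 := by omega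
    have e2 : t + 2 - 2 = t := by omega
    rw [e1, e2]
    ring
  refine ⟨hp2, ?_, ?_, ?_⟩
  · have := hp.two_le
    rcases Nat.lt_or_ge 3 p with h' | h'
    · exact h'
    · interval_cases p
      · exact absurd rfl hp2
      · exact absurd rfl hp3
  · rw [hfac]
    exact Dvd.dvd.mul_left h _
  · intro h'
    rw [hN] at h
    have := (Nat.dvd_add_right (Dvd.dvd.mul_right h' _)).mp h
    exact hp3 ((Nat.prime_dvd_prime_iff_eq hp Nat.prime_three).mp this)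

/-- Facts on a prime `p ∣ (q - 1) / 2`. -/
theorem prime_half_facts (m : ℕ) (p : ℕ) (hp : p.Prime) (h : p ∣ (3 ^ (2 * m + 1) - 1) / 2) :
    p ≠ 2 ∧ 3 < p ∧ p ∣ 3 ^ (2 * m + 1) - 1 := by
  have h8 := three_pow_mod_eight'' m
  have hq1 : 1 ≤ 3 ^ (2 * m + 1) := Nat.one_le_pow _ _ (by norm_num)
  have hdvd : (3 ^ (2 * m + 1) - 1) / 2 ∣ 3 ^ (2 * m + 1) - 1 := Nat.div_dvd_of_dvd (by omega)
  have hp2 : p ≠ 2 := by
    rintro rfl
    obtain ⟨k, hk⟩ := h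
    omega
  have h3q : 3 ∣ 3 ^ (2 * m + 1) := dvd_pow_self 3 (by omega)
  have hp3 : p ≠ 3 := by
    rintro rfl
    have h1 := h.trans hdvd
    have := Nat.dvd_sub h3q h1
    have e1 : 3 ^ (2 * m + 1) - (3 ^ (2 * m + 1) - 1) = 1 := by omega
    rw [e1] at this
    norm_num at this
  refine ⟨hp2, ?_, h.trans hdvd⟩
  have := hp.two_le
  rcases Nat.lt_or_ge 3 p with h' | h'
  · exact h'
  · interval_cases p
    · exact absurd rfl hp2
    · exact absurd rfl hp3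

/-- Facts on a prime `p ∣ (q + 1) / 4`. -/
theorem prime_quarter_facts (m : ℕ) (p : ℕ) (hp : p.Prime) (h : p ∣ (3 ^ (2 * m + 1) + 1) / 4) :
    p ≠ 2 ∧ p ∣ 3 ^ (2 * m + 1) + 1 := by
  have h8 := three_pow_mod_eight'' m
  have hdvd : (3 ^ (2 * m + 1) + 1) / 4 ∣ 3 ^ (2 * m + 1) + 1 := Nat.div_dvd_of_dvd (by omega)
  refine ⟨?_, h.trans hdvd⟩
  rintro rfl
  obtain ⟨k, hk⟩ := h
  omega

end Cfsg.Agent.Lib.Helper61.ReeW
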